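import Cfsg.Agent.RuD.IdxChkT_m3
set_option linter.all false

-- part: RuD/IdxChkD
section
set_option linter.all false

/-! Kernel checks of the rules for the letter `d` (generated). -/

set_option autoImplicit false
set_option maxRecDepth 100000

set_option Elab.async false

namespace Cfsg.Agent.RuD.IdxChkD

open Cfsg.Agent.Lib.PermNet Cfsg.Agent.RuD.IdxLib Cfsg.Agent.RuD.IdxDef

/-- rules, group 0 -/
def l0 : List (ℕ × ℕ × Bool) := [(8, 0, false), (18, 3, false), (34, 2, false), (26, 2, false), (68, 0, false), (14, 2, false), (14, 3, true), (19, 2, false), (27, 3, true)]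

/-- rules, group 1 -/
def l1 : List (ℕ × ℕ × Bool) := [(27, 2, false), (53, 4, true), (57, 4, false), (56, 4, false), (53, 3, false), (60, 0, false)]

/-- rules, group 2 -/
def l2 : List (ℕ × ℕ × Bool) := [(57, 5, true)]

theorem ok0 : l0.all (C.ruleOK .d) = true := by decide +kernel

theorem ok1 : l1.all (C.ruleOK .d) = true := by decide +kernel

theorem ok2 : l2.all (C.ruleOK .d) = true := by decide +kernel

theorem m0 : Nat.beq (Nat.land IdxMask.d0 (C.rMs .d l0)) IdxMask.d0 = true := by decide +kernel

theorem m1 : Nat.beq (Nat.land IdxMask.d1 (C.rMs .d l1)) IdxMask.d1 = true := by decide +kernel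

/-- the justified masks -/
noncomputable def Ms : List ℕ := [base .d, IdxMask.d0, IdxMask.d1, C.rMs .d l2]

theorem good : Good .d Ms := by
  unfold Ms
  exact .cons (jm_base _) (.cons (JM.mono m0 (JM.rules l0 ok0)) (.cons (JM.mono m1 (JM.rules l1 ok1)) (.cons (JM.rules l2 ok2) (.nil _))))

theorem cov : full (orL Ms) = true := by decide +kernel

end Cfsg.Agent.RuD.IdxChkD
end

-- part: RuD/IdxChkW
section
set_option linter.all false

/-! Kernel checks of the rules for the letter `w` (generated). -/

set_option autoImplicit false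
set_option maxRecDepth 100000

set_option Elab.async false

namespace Cfsg.Agent.RuD.IdxChkW

open Cfsg.Agent.Lib.PermNet Cfsg.Agent.RuD.IdxLib Cfsg.Agent.RuD.IdxDef

/-- rules, group 0 -/
def l0 : List (ℕ × ℕ × Bool) := [(23, 0, false), (71, 0, false), (41, 0, false), (49, 0, false), (61, 5, false), (18, 0, false), (18, 2, false)]

/-- rules, group 1 -/
def l1 : List (ℕ × ℕ × Bool) := [(61, 3, false), (65, 7, false), (65, 4, false)]

/-- rules, group 2 -/
def l2 : List (ℕ × ℕ × Bool) := [(65, 10, false), (66, 7, false)]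

/-- rules, group 3 -/
def l3 : List (ℕ × ℕ × Bool) := [(66, 11, false)]

theorem ok0 : l0.all (C.ruleOK .w) = true := by decide +kernel

theorem ok1 : l1.all (C.ruleOK .w) = true := by decide +kernel

theorem ok2 : l2.all (C.ruleOK .w) = true := by decide +kernel

theorem ok3 : l3.all (C.ruleOK .w) = true := by decide +kernel

theorem m0 : Nat.beq (Nat.land IdxMask.w0 (C.rMs .w l0)) IdxMask.w0 = true := by decide +kernel

theorem m1 : Nat.beq (Nat.land IdxMask.w1 (C.rMs .w l1)) IdxMask.w1 = true := by decide +kernel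

theorem m2 : Nat.beq (Nat.land IdxMask.w2 (C.rMs .w l2)) IdxMask.w2 = true := by decide +kernel

/-- the justified masks -/
noncomputable def Ms : List ℕ := [base .w, IdxMask.w0, IdxMask.w1, IdxMask.w2, C.rMs .w l3]

theorem good : Good .w Ms := by
  unfold Ms
  exact .cons (jm_base _) (.cons (JM.mono m0 (JM.rules l0 ok0)) (.cons (JM.mono m1 (JM.rules l1 ok1)) (.cons (JM.mono m2 (JM.rules l2 ok2)) (.cons (JM.rules l3 ok3) (.nil _)))))

theorem cov : (seqB (orL Ms) fun M => full (Nat.lor M ((net .w).app M))) = true := by decide +kernel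

end Cfsg.Agent.RuD.IdxChkW
end
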